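import Cfsg.Agent.Lib.Helper28.He2B.ConjData

set_option autoImplicit false
set_option linter.unusedVariables false
set_option Elab.async false

namespace Cfsg.Agent.Lib.Helper28.He2B

open Cfsg.Spor.He (Gen)
open Cfsg.Agent.Lib.Helper28.TC
open Cfsg.Agent.Lib.Helper28.He2058 (tf genOf nn)

noncomputable section

theorem cjF_blk0 : allRange (guard 3825 cjF) 9 (0 * 2 ^ 9) = true := by decide +kernel
theorem cjF_blk1 : allRange (guard 3825 cjF) 9 (1 * 2 ^ 9) = true := by decide +kernel
theorem cjF_blk2 : allRange (guard 3825 cjF) 9 (2 * 2 ^ 9) = true := by decide +kernel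
theorem cjF_blk3 : allRange (guard 3825 cjF) 9 (3 * 2 ^ 9) = true := by decide +kernel
theorem cjF_blk4 : allRange (guard 3825 cjF) 9 (4 * 2 ^ 9) = true := by decide +kernel
theorem cjF_blk5 : allRange (guard 3825 cjF) 9 (5 * 2 ^ 9) = true := by decide +kernel
theorem cjF_blk6 : allRange (guard 3825 cjF) 9 (6 * 2 ^ 9) = true := by decide +kernel
theorem cjF_blk7 : allRange (guard 3825 cjF) 9 (7 * 2 ^ 9) = true := by decide +kernel
theorem cjF_all : ∀ j, j < 3825 → cjF j = true := by
  refine all_of_blocks 3825 cjF 9 8 (by decide) ?_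
  intro k hk
  interval_cases k
  · exact cjF_blk0
  · exact cjF_blk1
  · exact cjF_blk2
  · exact cjF_blk3
  · exact cjF_blk4
  · exact cjF_blk5
  · exact cjF_blk6
  · exact cjF_blk7
theorem cjQ_blk0 : allRange (guard 3824 cjQ) 9 (0 * 2 ^ 9) = true := by decide +kernel
theorem cjQ_blk1 : allRange (guard 3824 cjQ) 9 (1 * 2 ^ 9) = true := by decide +kernel
theorem cjQ_blk2 : allRange (guard 3824 cjQ) 9 (2 * 2 ^ 9) = true := by decide +kernel
theorem cjQ_blk3 : allRange (guard 3824 cjQ) 9 (3 * 2 ^ 9) = true := by decide +kernel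
theorem cjQ_blk4 : allRange (guard 3824 cjQ) 9 (4 * 2 ^ 9) = true := by decide +kernel
theorem cjQ_blk5 : allRange (guard 3824 cjQ) 9 (5 * 2 ^ 9) = true := by decide +kernel
theorem cjQ_blk6 : allRange (guard 3824 cjQ) 9 (6 * 2 ^ 9) = true := by decide +kernel
theorem cjQ_blk7 : allRange (guard 3824 cjQ) 9 (7 * 2 ^ 9) = true := by decide +kernel
theorem cjQ_all : ∀ j, j < 3824 → cjQ j = true := by
  refine all_of_blocks 3824 cjQ 9 8 (by decide) ?_
  intro k hk
  interval_cases k
  · exact cjQ_blk0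
  · exact cjQ_blk1
  · exact cjQ_blk2
  · exact cjQ_blk3
  · exact cjQ_blk4
  · exact cjQ_blk5
  · exact cjQ_blk6
  · exact cjQ_blk7

end

end Cfsg.Agent.Lib.Helper28.He2B
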