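/-
A counting bound for the centralizer of an element `z` of a finite group `G` acting on a finite set:
if `N` distinct conjugates of `z` fix the point `ω0`, then
`|C_G(z)| * N ≤ |Fix(z)| * |G_{ω0}|`.
-/
import Mathlib

set_option autoImplicit false

namespace Cfsg.Agent.Lib.Helper28.He2B

theorem card_centralizer_mul_le {G : Type*} [Group G] [Finite G] {Ω : Type*} [Finite Ω]
    (ρ : G →* Equiv.Perm Ω) (ω0 : Ω) (z : G) (N : ℕ) (cj : Fin N → G)
    (hinj : Function.Injective cj)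
    (hconj : ∀ j, ∃ g : G, cj j = g * z * g⁻¹)
    (hfix : ∀ j, ρ (cj j) ω0 = ω0) :
    Nat.card (Subgroup.centralizer ({z} : Set G)) * N ≤
      Nat.card {ω : Ω // ρ z ω = ω} * Nat.card {g : G // ρ g ω0 = ω0} := by
  classical
  choose gj hgj using hconj
  have hmemC : ∀ c : Subgroup.centralizer ({z} : Set G), (c : G) * z * (c : G)⁻¹ = z := by
    intro c
    have h := Subgroup.mem_centralizer_iff.1 c.2 z rfl
    rw [← h, mul_inv_cancel_right]
  have key : ∀ g : G, ρ (g * z * g⁻¹) ω0 = ω0 → ρ z (ρ g⁻¹ ω0) = ρ g⁻¹ ω0 := by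
    intro g h
    have h2 : ρ g⁻¹ (ρ (g * z * g⁻¹) ω0) = ρ g⁻¹ ω0 := by rw [h]
    rw [← Equiv.Perm.mul_apply, ← map_mul] at h2
    have e : g⁻¹ * (g * z * g⁻¹) = z * g⁻¹ := by group
    rw [e, map_mul, Equiv.Perm.mul_apply] at h2
    exact h2
  have hconjeq : ∀ (c : Subgroup.centralizer ({z} : Set G)) (j : Fin N),
      (gj j * (c : G)) * z * (gj j * (c : G))⁻¹ = cj j := by
    intro c j
    have e : (gj j * (c : G)) * z * (gj j * (c : G))⁻¹ =
        gj j * ((c : G) * z * (c : G)⁻¹) * (gj j)⁻¹ := by group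
    rw [e, hmemC c, ← hgj j]
  -- step 1
  let P := {g : G // ρ z (ρ g⁻¹ ω0) = ρ g⁻¹ ω0}
  let f1 : (Subgroup.centralizer ({z} : Set G)) × Fin N → P := fun x =>
    ⟨gj x.2 * (x.1 : G), key _ (by rw [hconjeq x.1 x.2]; exact hfix x.2)⟩
  have hf1 : Function.Injective f1 := by
    rintro ⟨c, j⟩ ⟨c', j'⟩ h
    have h1 : gj j * (c : G) = gj j' * (c' : G) := congrArg Subtype.val h
    have h2 : cj j = cj j' := by rw [← hconjeq c j, ← hconjeq c' j', h1]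
    have h3 : j = j' := hinj h2
    subst h3
    have h4 : (c : G) = (c' : G) := mul_left_cancel h1
    rw [Subtype.ext h4]
  -- step 2
  let sec : Ω → G := fun φ => if h : ∃ g : G, ρ g⁻¹ ω0 = φ then h.choose else 1
  have hsec : ∀ g : G, ρ (sec (ρ g⁻¹ ω0))⁻¹ ω0 = ρ g⁻¹ ω0 := by
    intro g
    have hex : ∃ g' : G, ρ g'⁻¹ ω0 = ρ g⁻¹ ω0 := ⟨g, rfl⟩
    show ρ (if h : ∃ g' : G, ρ g'⁻¹ ω0 = ρ g⁻¹ ω0 then h.choose else 1)⁻¹ ω0 = _
    rw [dif_pos hex]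
    exact hex.choose_spec
  let f2 : P → {ω : Ω // ρ z ω = ω} × {g : G // ρ g ω0 = ω0} := fun g =>
    (⟨ρ (g : G)⁻¹ ω0, g.2⟩, ⟨(g : G) * (sec (ρ (g : G)⁻¹ ω0))⁻¹, by
      rw [map_mul, Equiv.Perm.mul_apply, hsec, ← Equiv.Perm.mul_apply, ← map_mul,
        mul_inv_cancel, map_one, Equiv.Perm.one_apply]⟩)
  have hf2 : Function.Injective f2 := by
    rintro ⟨g, hg⟩ ⟨g', hg'⟩ h
    have h1 : ρ g⁻¹ ω0 = ρ g'⁻¹ ω0 := congrArg (fun x => (x.1 : Ω)) h
    have h2 : g * (sec (ρ g⁻¹ ω0))⁻¹ = g' * (sec (ρ g'⁻¹ ω0))⁻¹ :=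
      congrArg (fun x => (x.2 : G)) h
    rw [h1] at h2
    exact Subtype.ext (mul_right_cancel h2)
  have c1 := Nat.card_le_card_of_injective f1 hf1
  have c2 := Nat.card_le_card_of_injective f2 hf2
  rw [Nat.card_prod, Nat.card_fin] at c1
  rw [Nat.card_prod] at c2
  exact c1.trans c2

end Cfsg.Agent.Lib.Helper28.He2B
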