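/-
The centralizer of the involution `d` in the presented Held group has at most `21504` elements:
`3825` distinct conjugates of `d` fix the point `0` of the action on `2058` points, `d` has `42`
fixed points, and the point stabilizer has order `1958400`.
-/
import Cfsg.Agent.Lib.Helper28.He2B.ConjChk
import Cfsg.Agent.Lib.Helper28.He2B.Count
import Cfsg.Agent.Lib.Helper28.TCOrbit
import Cfsg.Agent.Lib.Helper56.HePerm.Main

set_option autoImplicit false

namespace Cfsg.Agent.Lib.Helper28.He2B

open Cfsg.Spor.He (Gen)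
open Cfsg.Agent.Lib.Helper28.TC
open Cfsg.Agent.Lib.Helper28.He2058 (tf genOf nn rels T hrel hinv nn_pos subS cosetEquiv)
open Cfsg.Agent.Lib.Helper56.HePerm (π π_injective π_wval π_of wp wp_apply card_He)

/-- the presented Held group -/
abbrev GH : Type := PresentedGroup rels

/-- the involution `d` -/
noncomputable def zd : GH := pval rels Gen.d

instance finite_GH : Finite GH := by
  apply Nat.finite_of_card_ne_zero
  rw [card_He]
  norm_num

/-- the point `0` -/
def pt0 : Fin nn := ⟨0, nn_pos⟩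

/-- the `j`-th conjugate of `d` -/
noncomputable def cjElt (j : ℕ) : GH :=
  wval (pval rels) (cjW j) * zd * (wval (pval rels) (cjW j))⁻¹

theorem cjElt_eq (j : ℕ) :
    cjElt j = wval (pval rels) (cjW j ++ Gen.d :: (cjW j).reverse) := by
  unfold cjElt zd
  rw [wval_append, wval_cons, wval_reverse (pval rels) hinv, mul_assoc]

theorem π_cjElt_val (j : ℕ) (p : Fin nn) : (π (cjElt j) p).val = cjAct (cjW j) p.val := by
  rw [cjElt_eq, π_wval, wp_apply, cjAct_eq]

theorem cjElt_fix (j : ℕ) (hj : j < 3825) : π (cjElt j) pt0 = pt0 := by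
  apply Fin.ext
  rw [π_cjElt_val]
  exact nbeq_eq_true.1 (cjF_all j hj)

theorem cjFp_congr (j j' : ℕ) (h : cjElt j = cjElt j') : cjFp j = cjFp j' := by
  have e : ∀ p : Fin nn, cjAct (cjW j) p.val = cjAct (cjW j') p.val := by
    intro p
    rw [← π_cjElt_val, ← π_cjElt_val, h]
  have e1 : cjAct (cjW j) 1 = cjAct (cjW j') 1 := e ⟨1, by decide⟩
  have e2 : cjAct (cjW j) 92 = cjAct (cjW j') 92 := e ⟨92, by decide⟩
  have e3 : cjAct (cjW j) 2 = cjAct (cjW j') 2 := e ⟨2, by decide⟩
  unfold cjFp
  rw [e1, e2, e3]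

theorem cjFp_lt_aux (j : ℕ) : ∀ d, j + d + 1 < 3825 → cjFp j < cjFp (j + d + 1) := by
  intro d
  induction d with
  | zero =>
    intro h
    exact nlt_eq_true.1 (cjQ_all j (by omega))
  | succ d ih =>
    intro h
    have h1 := ih (by omega)
    have h2 : cjFp (j + d + 1) < cjFp (Nat.succ (j + d + 1)) :=
      nlt_eq_true.1 (cjQ_all (j + d + 1) (by omega))
    exact lt_trans h1 h2

theorem cjFp_lt (j j' : ℕ) (h : j < j') (h' : j' < 3825) : cjFp j < cjFp j' := by
  obtain ⟨d, rfl⟩ : ∃ d, j' = j + d + 1 := ⟨j' - j - 1, by omega⟩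
  exact cjFp_lt_aux j d h'

theorem cj_inj : Function.Injective (fun j : Fin 3825 => cjElt j.val) := by
  intro j j' h
  have h1 := cjFp_congr _ _ h
  by_contra hne
  rcases lt_or_gt_of_ne (fun e => hne (Fin.ext e)) with hlt | hlt
  · exact absurd h1 (ne_of_lt (cjFp_lt _ _ hlt j'.2))
  · exact absurd h1.symm (ne_of_lt (cjFp_lt _ _ hlt j.2))

theorem π_zd_val (p : Fin nn) : (π zd p).val = tf Gen.d p.val := by
  show (π (PresentedGroup.of Gen.d) p).val = _
  rw [π_of]
  rfl

theorem fix_count : countRange (fun i => band (nlt i nn) (Nat.beq (tf Gen.d i) i)) 12 0 = 42 := by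
  decide +kernel

theorem card_fix : Nat.card {ω : Fin nn // π zd ω = ω} = 42 := by
  have h := card_fin_filter (fun i => Nat.beq (tf Gen.d i) i) nn 12 (by decide)
  rw [fix_count] at h
  rw [← h, ← Nat.card_coe_set_eq]
  apply Nat.card_congr
  apply Equiv.subtypeEquivRight
  intro ω
  show π zd ω = ω ↔ Nat.beq (tf Gen.d ω.val) ω.val = true
  rw [nbeq_eq_true, ← π_zd_val]
  exact Fin.ext_iff

theorem card_stab : Nat.card {g : GH // π g pt0 = pt0} * 2058 = 4030387200 := by
  obtain ⟨e, he1, hequiv⟩ := cosetEquiv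
  have hmem : ∀ g : GH, π g pt0 = pt0 ↔ g ∈ subH rels subS := by
    intro g
    have h1 : π g pt0 = e (g • ((1 : GH) : GH ⧸ subH rels subS)) := by
      rw [hequiv, he1]
      rfl
    have h2 : pt0 = e ((1 : GH) : GH ⧸ subH rels subS) := he1.symm
    rw [h1]
    conv_lhs => rw [h2]
    rw [e.apply_eq_iff_eq, MulAction.Quotient.smul_mk, QuotientGroup.eq]
    simp
  have hc : Nat.card {g : GH // π g pt0 = pt0} = Nat.card (subH rels subS) :=
    Nat.card_congr (Equiv.subtypeEquivRight hmem)
  have hi : (subH rels subS).index = 2058 := by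
    rw [Subgroup.index_eq_card, Nat.card_congr e, Nat.card_fin]
    rfl
  have hm := Subgroup.card_mul_index (subH rels subS)
  rw [hi, card_He] at hm
  rw [hc]
  exact hm

/-- the centralizer of `d` has at most `21504` elements -/
theorem card_centralizer_le : Nat.card (Subgroup.centralizer ({zd} : Set GH)) ≤ 21504 := by
  have h := card_centralizer_mul_le π pt0 zd 3825 (fun j : Fin 3825 => cjElt j.val) cj_inj
    (fun j => ⟨wval (pval rels) (cjW j.val), rfl⟩) (fun j => cjElt_fix j.val j.2)
  rw [card_fix] at h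
  have h2 := card_stab
  generalize Nat.card {g : GH // π g pt0 = pt0} = s at h h2
  generalize Nat.card (Subgroup.centralizer ({zd} : Set GH)) = a at h ⊢
  omega

end Cfsg.Agent.Lib.Helper28.He2B
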