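/-
The centralizer of the transvection `1 + E₀₁` in `SL₅(2)`: it has at most `21504` elements, and it
contains thirteen elementary transvections.
-/
import Mathlib

set_option autoImplicit false

namespace Cfsg.Agent.Lib.Helper28.He2B

open Matrix

/-- `SL₅(2)` -/
abbrev SL5 : Type := Matrix.SpecialLinearGroup (Fin 5) (ZMod 2)
/-- `5 × 5` matrices over `𝔽₂` -/
abbrev M5 : Type := Matrix (Fin 5) (Fin 5) (ZMod 2)

/-- the elementary transvection `1 + E_{ab}` in `SL₅(2)` -/
def tv (a b : Fin 5) (h : a ≠ b) : SL5 := ⟨transvection a b 1, det_transvection_of_ne a b h 1⟩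

/-- the transvection `1 + E₀₁` -/
def tS : SL5 := tv 0 1 (by decide)

theorem tS_coe : (tS : M5) = transvection 0 1 1 := rfl

/-- the centralizer of `tS` -/
abbrev DD : Subgroup SL5 := Subgroup.centralizer ({tS} : Set SL5)

theorem comm_of_mem {g : SL5} (hg : g ∈ DD) :
    (transvection 0 1 1 : M5) * (g : M5) = (g : M5) * transvection 0 1 1 := by
  have h := Subgroup.mem_centralizer_iff.1 hg tS rfl
  have h2 := congrArg (fun x : SL5 => (x : M5)) h
  simpa [Matrix.SpecialLinearGroup.coe_mul, tS_coe] using h2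

theorem struct_of_comm (M : M5)
    (h : (transvection 0 1 1 : M5) * M = M * transvection 0 1 1) :
    (∀ a, a ≠ 0 → M a 0 = 0) ∧ (∀ b, b ≠ 1 → M 1 b = 0) ∧ M 1 1 = M 0 0 := by
  refine ⟨?_, ?_, ?_⟩
  · intro a ha
    have h1 := congrFun (congrFun h a) 1
    rw [transvection_mul_apply_of_ne _ _ _ _ ha, mul_transvection_apply_same] at h1
    simpa using h1
  · intro b hb
    have h1 := congrFun (congrFun h 0) b
    rw [transvection_mul_apply_same, mul_transvection_apply_of_ne _ _ _ _ hb] at h1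
    simpa using h1
  · have h1 := congrFun (congrFun h 0) 1
    rw [transvection_mul_apply_same, mul_transvection_apply_same] at h1
    simpa using h1

/-- the embedding of the last three coordinates -/
def sg (k : Fin 3) : Fin 5 := ⟨k.val + 2, by omega⟩

theorem sg0 : sg 0 = 2 := rfl
theorem sg1 : sg 1 = 3 := rfl
theorem sg2 : sg 2 = 4 := rfl

/-- the lower right `3 × 3` block -/
def blk (M : M5) : Matrix (Fin 3) (Fin 3) (ZMod 2) := fun i j => M (sg i) (sg j)

theorem blk_mul (M M' : M5) (hM : ∀ a, a ≠ 0 → M a 0 = 0) (hM' : ∀ b, b ≠ 1 → M' 1 b = 0) :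
    blk M * blk M' = blk (M * M') := by
  ext i j
  simp only [blk, Matrix.mul_apply, Fin.sum_univ_five, Fin.sum_univ_three, sg0, sg1, sg2]
  have h1 : M (sg i) 0 = 0 := hM _ (by fin_cases i <;> decide)
  have h2 : M' 1 (sg j) = 0 := hM' _ (by fin_cases j <;> decide)
  rw [h1, h2]
  ring

theorem mem_inv {g : SL5} (hg : g ∈ DD) : g⁻¹ ∈ DD := DD.inv_mem hg

theorem coe_mul_inv (g : SL5) : (g : M5) * ((g⁻¹ : SL5) : M5) = 1 := by
  rw [← Matrix.SpecialLinearGroup.coe_mul, mul_inv_cancel, Matrix.SpecialLinearGroup.coe_one]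

theorem coe_inv_mul (g : SL5) : ((g⁻¹ : SL5) : M5) * (g : M5) = 1 := by
  rw [← Matrix.SpecialLinearGroup.coe_mul, inv_mul_cancel, Matrix.SpecialLinearGroup.coe_one]

theorem blk_one : blk (1 : M5) = 1 := by
  ext i j
  fin_cases i <;> fin_cases j <;> rfl

/-- the block of an element of the centralizer, as an invertible matrix -/
def blkGL (g : DD) : GL (Fin 3) (ZMod 2) where
  val := blk ((g : SL5) : M5)
  inv := blk (((g : SL5)⁻¹ : SL5) : M5)
  val_inv := by
    have s1 := struct_of_comm _ (comm_of_mem g.2)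
    have s2 := struct_of_comm _ (comm_of_mem (mem_inv g.2))
    rw [blk_mul _ _ s1.1 s2.2.1, coe_mul_inv, blk_one]
  inv_val := by
    have s1 := struct_of_comm _ (comm_of_mem g.2)
    have s2 := struct_of_comm _ (comm_of_mem (mem_inv g.2))
    rw [blk_mul _ _ s2.1 s1.2.1, coe_inv_mul, blk_one]

theorem diag_eq_one {g : SL5} (hg : g ∈ DD) : (g : M5) 0 0 = 1 ∧ (g : M5) 1 1 = 1 := by
  have s1 := struct_of_comm _ (comm_of_mem hg)
  have h := congrFun (congrFun (coe_inv_mul g) 0) 0
  simp only [Matrix.mul_apply, Fin.sum_univ_five, Matrix.one_apply_eq] at h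
  rw [s1.1 1 (by decide), s1.1 2 (by decide), s1.1 3 (by decide), s1.1 4 (by decide)] at h
  simp only [mul_zero, add_zero] at h
  have h0 : (g : M5) 0 0 = 1 := by
    generalize (g : M5) 0 0 = x at h
    generalize ((g⁻¹ : SL5) : M5) 0 0 = y at h
    revert h; revert x y; decide
  exact ⟨h0, by rw [s1.2.2, h0]⟩

/-- the coordinates of an element of the centralizer -/
def psi (g : DD) : ZMod 2 × (Fin 3 → ZMod 2) × (Fin 3 → ZMod 2) × GL (Fin 3) (ZMod 2) :=
  (((g : SL5) : M5) 0 1, fun k => ((g : SL5) : M5) 0 (sg k), fun k => ((g : SL5) : M5) (sg k) 1,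
    blkGL g)

theorem psi_injective : Function.Injective psi := by
  intro g g' h
  have s := struct_of_comm _ (comm_of_mem g.2)
  have s' := struct_of_comm _ (comm_of_mem g'.2)
  have d := diag_eq_one g.2
  have d' := diag_eq_one g'.2
  have h1 : ((g : SL5) : M5) 0 1 = ((g' : SL5) : M5) 0 1 := congrArg (fun x => x.1) h
  have h2 : ∀ k, ((g : SL5) : M5) 0 (sg k) = ((g' : SL5) : M5) 0 (sg k) :=
    fun k => congrFun (congrArg (fun x => x.2.1) h) k
  have h3 : ∀ k, ((g : SL5) : M5) (sg k) 1 = ((g' : SL5) : M5) (sg k) 1 :=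
    fun k => congrFun (congrArg (fun x => x.2.2.1) h) k
  have h4 : ∀ i j, ((g : SL5) : M5) (sg i) (sg j) = ((g' : SL5) : M5) (sg i) (sg j) := by
    intro i j
    have := congrArg (fun x => (x.2.2.2 : Matrix (Fin 3) (Fin 3) (ZMod 2))) h
    exact congrFun (congrFun this i) j
  apply Subtype.ext
  apply Subtype.ext
  ext i j
  fin_cases i <;> fin_cases j
  · exact d.1.trans d'.1.symm
  · exact h1
  · exact h2 0
  · exact h2 1
  · exact h2 2
  · exact (s.1 1 (by decide)).trans (s'.1 1 (by decide)).symm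
  · exact d.2.trans d'.2.symm
  · exact (s.2.1 2 (by decide)).trans (s'.2.1 2 (by decide)).symm
  · exact (s.2.1 3 (by decide)).trans (s'.2.1 3 (by decide)).symm
  · exact (s.2.1 4 (by decide)).trans (s'.2.1 4 (by decide)).symm
  · exact (s.1 2 (by decide)).trans (s'.1 2 (by decide)).symm
  · exact h3 0
  · exact h4 0 0
  · exact h4 0 1
  · exact h4 0 2
  · exact (s.1 3 (by decide)).trans (s'.1 3 (by decide)).symm
  · exact h3 1
  · exact h4 1 0
  · exact h4 1 1
  · exact h4 1 2
  · exact (s.1 4 (by decide)).trans (s'.1 4 (by decide)).symm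
  · exact h3 2
  · exact h4 2 0
  · exact h4 2 1
  · exact h4 2 2

theorem card_GL3 : Nat.card (GL (Fin 3) (ZMod 2)) = 168 := by
  rw [Matrix.card_GL_field, ZMod.card, Fin.prod_univ_three]
  rfl

theorem card_DD_le : Nat.card DD ≤ 21504 := by
  have h := Nat.card_le_card_of_injective psi psi_injective
  have e1 : Nat.card (ZMod 2) = 2 := by rw [Nat.card_eq_fintype_card, ZMod.card]
  have e2 : Nat.card (Fin 3 → ZMod 2) = 8 := by
    rw [Nat.card_eq_fintype_card, Fintype.card_fun, ZMod.card, Fintype.card_fin]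
    rfl
  rw [Nat.card_prod, Nat.card_prod, Nat.card_prod, card_GL3, e1, e2] at h
  exact h

end Cfsg.Agent.Lib.Helper28.He2B
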