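/-
The action of `SL₅(2)` on the 32 vectors of `𝔽₂⁵`, with vectors encoded as numbers below 32, and a
lower bound for the order of the subgroup generated by thirteen elementary transvections.
-/
import Cfsg.Agent.Lib.Helper28.He2B.SLCent
import Cfsg.Agent.Lib.Helper56.PermSimple

set_option autoImplicit false

namespace Cfsg.Agent.Lib.Helper28.He2B

open Matrix MulAction
open Cfsg.Agent.Lib.Helper56 (ptStab card_ptStab_ge ptStab_nil mem_ptStab)

/-- the vectors -/
abbrev V5 : Type := Fin 5 → ZMod 2

/-- decode a vector -/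
def dec (u : ℕ) : V5 := fun i => if Nat.testBit u i.val then 1 else 0

/-- encode a vector -/
def enc (v : V5) : ℕ :=
  (v 0).val + 2 * (v 1).val + 4 * (v 2).val + 8 * (v 3).val + 16 * (v 4).val

theorem enc_lt (v : V5) : enc v < 32 := by
  unfold enc
  have h0 := ZMod.val_lt (v 0)
  have h1 := ZMod.val_lt (v 1)
  have h2 := ZMod.val_lt (v 2)
  have h3 := ZMod.val_lt (v 3)
  have h4 := ZMod.val_lt (v 4)
  omega

theorem dec_enc_aux : ∀ x0 x1 x2 x3 x4 : ZMod 2, ∀ i : Fin 5,
    (if Nat.testBit (x0.val + 2 * x1.val + 4 * x2.val + 8 * x3.val + 16 * x4.val) i.val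
      then (1 : ZMod 2) else 0) = ![x0, x1, x2, x3, x4] i := by decide

theorem dec_enc (v : V5) : dec (enc v) = v := by
  funext i
  have h := dec_enc_aux (v 0) (v 1) (v 2) (v 3) (v 4) i
  show (if Nat.testBit (enc v) i.val then (1 : ZMod 2) else 0) = v i
  unfold enc
  rw [h]
  fin_cases i <;> rfl

theorem enc_dec : ∀ u, u < 32 → enc (dec u) = u := by decide

/-- the permutation action on vectors -/
def alpha : SL5 →* Equiv.Perm V5 where
  toFun g :=
    { toFun := fun v => (g : M5) *ᵥ v
      invFun := fun v => ((g⁻¹ : SL5) : M5) *ᵥ v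
      left_inv := fun v => by
        show ((g⁻¹ : SL5) : M5) *ᵥ ((g : M5) *ᵥ v) = v
        rw [mulVec_mulVec, coe_inv_mul, one_mulVec]
      right_inv := fun v => by
        show (g : M5) *ᵥ (((g⁻¹ : SL5) : M5) *ᵥ v) = v
        rw [mulVec_mulVec, coe_mul_inv, one_mulVec] }
  map_one' := Equiv.ext fun v => by
    show ((1 : SL5) : M5) *ᵥ v = v
    rw [Matrix.SpecialLinearGroup.coe_one, one_mulVec]
  map_mul' g h := Equiv.ext fun v => by
    show ((g * h : SL5) : M5) *ᵥ v = (g : M5) *ᵥ ((h : M5) *ᵥ v)
    rw [Matrix.SpecialLinearGroup.coe_mul, mulVec_mulVec]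

theorem alpha_apply (g : SL5) (v : V5) : alpha g v = (g : M5) *ᵥ v := rfl

/-- the row index of the thirteen transvections -/
def pa : Fin 13 → Fin 5 := ![0, 0, 0, 0, 2, 3, 4, 2, 2, 3, 3, 4, 4]
/-- the column index of the thirteen transvections -/
def pb : Fin 13 → Fin 5 := ![1, 2, 3, 4, 1, 1, 1, 3, 4, 2, 4, 2, 3]

theorem pne : ∀ i, pa i ≠ pb i := by decide

/-- the thirteen transvections -/
def tvI (i : Fin 13) : SL5 := tv (pa i) (pb i) (pne i)

theorem tvI_coe (i : Fin 13) : (tvI i : M5) = transvection (pa i) (pb i) 1 := rfl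

/-- the action of a transvection on codes -/
def trop (a b u : ℕ) : ℕ := Nat.xor u (Nat.shiftLeft (Nat.land (Nat.shiftRight u b) 1) a)

theorem trop_lt : ∀ i : Fin 13, ∀ u, u < 32 → trop (pa i).val (pb i).val u < 32 := by decide

theorem tv_dec : ∀ i : Fin 13, ∀ u, u < 32 →
    (transvection (pa i) (pb i) 1 : M5) *ᵥ dec u = dec (trop (pa i).val (pb i).val u) := by
  decide

/-- the image of a code under a word in the transvections -/
def wordAct (l : List (Fin 13)) (u : ℕ) : ℕ :=
  l.foldr (fun i u => trop (pa i).val (pb i).val u) u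

theorem wordAct_lt (l : List (Fin 13)) (u : ℕ) (hu : u < 32) : wordAct l u < 32 := by
  induction l with
  | nil => exact hu
  | cons i l ih => exact trop_lt i _ ih

theorem prod_apply (l : List (Fin 13)) (u : ℕ) (hu : u < 32) :
    (l.map (fun i => alpha (tvI i))).prod (dec u) = dec (wordAct l u) := by
  induction l with
  | nil => rfl
  | cons i l ih =>
    rw [List.map_cons, List.prod_cons, Equiv.Perm.mul_apply, ih, alpha_apply, tvI_coe,
      tv_dec i _ (wordAct_lt l u hu)]
    rfl

/-- the transvections with index in a list, as permutations -/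
def genSet (I : List (Fin 13)) : Set (Equiv.Perm V5) := {s | ∃ i ∈ I, s = alpha (tvI i)}

theorem orbit_ge (I : List (Fin 13)) (b : ℕ) (hb : b < 32) (ws : List (List (Fin 13)))
    (hI : ∀ w ∈ ws, ∀ i ∈ w, i ∈ I)
    (hnd : (ws.map (fun w => wordAct w b)).Nodup) :
    ws.length ≤ (orbit (Subgroup.closure (genSet I)) (dec b)).ncard := by
  let f : Fin ws.length → V5 := fun k => dec (wordAct (ws.get k) b)
  have hf : Function.Injective f := by
    intro k k' h
    have h1 : wordAct (ws.get k) b = wordAct (ws.get k') b := by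
      have := congrArg enc h
      rwa [enc_dec _ (wordAct_lt _ b hb), enc_dec _ (wordAct_lt _ b hb)] at this
    have h2 := (List.nodup_iff_injective_get.1 hnd)
    have hk : k.val < (ws.map (fun w => wordAct w b)).length := by
      rw [List.length_map]; exact k.2
    have hk' : k'.val < (ws.map (fun w => wordAct w b)).length := by
      rw [List.length_map]; exact k'.2
    have h3 : (ws.map (fun w => wordAct w b)).get ⟨k.val, hk⟩ =
        (ws.map (fun w => wordAct w b)).get ⟨k'.val, hk'⟩ := by
      simp only [List.get_eq_getElem, List.getElem_map]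
      exact h1
    have h4 := h2 h3
    exact Fin.ext (Fin.mk.inj h4)
  have hsub : Set.range f ⊆ orbit (Subgroup.closure (genSet I)) (dec b) := by
    rintro _ ⟨k, rfl⟩
    have hmem : ((ws.get k).map (fun i => alpha (tvI i))).prod ∈ Subgroup.closure (genSet I) := by
      apply Subgroup.list_prod_mem
      intro p hp
      obtain ⟨i, hi, rfl⟩ := List.mem_map.1 hp
      exact Subgroup.subset_closure ⟨i, hI _ (List.get_mem ws k) i hi, rfl⟩
    refine ⟨⟨_, hmem⟩, ?_⟩
    show ((ws.get k).map (fun i => alpha (tvI i))).prod (dec b) = _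
    rw [prod_apply _ _ hb]
  calc ws.length = Nat.card (Fin ws.length) := (Nat.card_fin _).symm
    _ = (Set.range f).ncard := by
      rw [← Set.image_univ, Set.ncard_image_of_injective _ hf, Set.ncard_univ]
    _ ≤ _ := Set.ncard_le_ncard hsub (Set.toFinite _)

end Cfsg.Agent.Lib.Helper28.He2B
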