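/-
A stabilizer chain for the group generated by the thirteen transvections: it has at least `21504`
elements.
-/
import Cfsg.Agent.Lib.Helper28.He2B.VecAct

set_option autoImplicit false

namespace Cfsg.Agent.Lib.Helper28.He2B

open Matrix MulAction
open Cfsg.Agent.Lib.Helper56 (ptStab card_ptStab_ge ptStab_nil mem_ptStab)

/-- the group generated by the thirteen transvections -/
def DG : Subgroup SL5 := Subgroup.closure (Set.range tvI)

/-- its image in the permutations of the vectors -/
def GG : Subgroup (Equiv.Perm V5) := DG.map alpha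

theorem alpha_tvI_mem (i : Fin 13) : alpha (tvI i) ∈ GG :=
  Subgroup.mem_map_of_mem alpha (Subgroup.subset_closure ⟨i, rfl⟩)

theorem genSet_le (I : List (Fin 13)) (pts : List ℕ) (hpts : ∀ p ∈ pts, p < 32)
    (hfix : ∀ i ∈ I, ∀ p ∈ pts, trop (pa i).val (pb i).val p = p) :
    ∀ s ∈ genSet I, s ∈ ptStab GG (pts.map dec) := by
  rintro s ⟨i, hi, rfl⟩
  refine ⟨alpha_tvI_mem i, ?_⟩
  intro v hv
  obtain ⟨p, hp, rfl⟩ := List.mem_map.1 hv
  rw [alpha_apply, tvI_coe, tv_dec i p (hpts p hp), hfix i hi p hp]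

/-- the generators of level 0 -/
def lvI0 : List (Fin 13) := [0, 4, 5, 6]

/-- words reaching the orbit at level 0 -/
def lvW0 : List (List (Fin 13)) := [[], [0], [4], [4, 0], [5], [5, 0], [5, 4], [5, 4, 0], [6], [6, 0], [6, 4], [6, 4, 0], [6, 5], [6, 5, 0], [6, 5, 4], [6, 5, 4, 0]]

/-- the generators of level 1 -/
def lvI1 : List (Fin 13) := [1, 2, 3, 7, 8, 9, 10, 11, 12]

/-- words reaching the orbit at level 1 -/
def lvW1 : List (List (Fin 13)) := [[], [1], [7, 9], [7, 9, 1], [9], [9, 1], [8, 11], [8, 11, 1], [11], [11, 1], [12, 7, 9], [12, 7, 9, 1], [11, 9], [11, 9, 1]]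

/-- the generators of level 2 -/
def lvI2 : List (Fin 13) := [2, 3, 7, 8, 10, 12]

/-- words reaching the orbit at level 2 -/
def lvW2 : List (List (Fin 13)) := [[], [2], [7], [7, 2], [10, 12], [10, 12, 2], [10, 12, 7], [10, 12, 7, 2], [12], [12, 2], [12, 7], [12, 7, 2]]

/-- the generators of level 3 -/
def lvI3 : List (Fin 13) := [3, 8, 10]

/-- words reaching the orbit at level 3 -/
def lvW3 : List (List (Fin 13)) := [[], [3], [8], [8, 3], [10], [10, 3], [10, 8], [10, 8, 3]]

theorem card_GG_ge : 21504 ≤ Nat.card GG := by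
  have h4 : 1 ≤ Nat.card (ptStab GG ([16, 8, 4, 2].map dec)) := Nat.card_pos
  have h3 := card_ptStab_ge GG ([8, 4, 2].map dec) (dec 16) (genSet lvI3)
    (genSet_le lvI3 [8, 4, 2] (by decide) (by decide)) 8 1
    (orbit_ge lvI3 16 (by decide) lvW3 (by decide) (by decide)) h4
  have h2 := card_ptStab_ge GG ([4, 2].map dec) (dec 8) (genSet lvI2)
    (genSet_le lvI2 [4, 2] (by decide) (by decide)) 12 _
    (orbit_ge lvI2 8 (by decide) lvW2 (by decide) (by decide)) h3
  have h1 := card_ptStab_ge GG ([2].map dec) (dec 4) (genSet lvI1)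
    (genSet_le lvI1 [2] (by decide) (by decide)) 14 _
    (orbit_ge lvI1 4 (by decide) lvW1 (by decide) (by decide)) h2
  have h0 := card_ptStab_ge GG ([].map dec) (dec 2) (genSet lvI0)
    (genSet_le lvI0 [] (by decide) (by decide)) 16 _
    (orbit_ge lvI0 2 (by decide) lvW0 (by decide) (by decide)) h1
  rw [List.map_nil, ptStab_nil] at h0
  exact le_trans (by norm_num) h0

theorem card_DG_ge : 21504 ≤ Nat.card DG := by
  refine le_trans card_GG_ge ?_
  let f : DG → GG := fun x => ⟨alpha x, Subgroup.mem_map_of_mem alpha x.2⟩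
  have hf : Function.Surjective f := by
    rintro ⟨y, x, hx, rfl⟩
    exact ⟨⟨x, hx⟩, rfl⟩
  exact Nat.card_le_card_of_surjective f hf

end Cfsg.Agent.Lib.Helper28.He2B
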