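/-
Kernel-friendly definitions for the centralizer of the involution `d` of the presented Held group:
packed words, conjugates of `d`, and the relation table between pairs of points and vectors.
-/
import Cfsg.Agent.Lib.Helper28.He2058.Defs
import Cfsg.Agent.Lib.Helper28.TCCheck

set_option autoImplicit false
set_option linter.unusedVariables false

namespace Cfsg.Agent.Lib.Helper28.He2B

open Cfsg.Spor.He (Gen)
open Cfsg.Agent.Lib.Helper28.TC
open Cfsg.Agent.Lib.Helper28.He2058 (tf genOf nn)

noncomputable section

/-- Boolean disjunction by recursion on the first argument. -/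
def bor (a b : Bool) : Bool := Bool.rec b true a

theorem bor_eq_true {a b : Bool} : bor a b = true ↔ a = true ∨ b = true := by
  cases a <;> cases b <;> simp [bor]

/-- Boolean negation by recursion. -/
def bnot (a : Bool) : Bool := Bool.rec true false a

theorem bnot_eq_true {a : Bool} : bnot a = true ↔ a = false := by
  cases a <;> simp [bnot]

/-- Some `i` in `[lo, lo + 2^d)` satisfies `p`. -/
def anyRange (p : ℕ → Bool) (d lo : ℕ) : Bool :=
  Nat.rec (motive := fun _ => ℕ → Bool) (fun lo => p lo)
    (fun d ih lo => bor (ih lo) (ih (Nat.add lo (Nat.pow 2 d)))) d lo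

theorem anyRange_zero (p : ℕ → Bool) (lo : ℕ) : anyRange p 0 lo = p lo := rfl

theorem anyRange_succ (p : ℕ → Bool) (d lo : ℕ) :
    anyRange p (d + 1) lo = bor (anyRange p d lo) (anyRange p d (lo + 2 ^ d)) := rfl

theorem anyRange_spec (p : ℕ → Bool) (d : ℕ) : ∀ lo : ℕ, anyRange p d lo = true →
    ∃ i, lo ≤ i ∧ i < lo + 2 ^ d ∧ p i = true := by
  induction d with
  | zero =>
    intro lo h
    rw [anyRange_zero] at h
    exact ⟨lo, le_refl _, by simp, h⟩
  | succ d ih =>
    intro lo h
    rw [anyRange_succ, bor_eq_true] at h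
    rcases h with h | h
    · obtain ⟨i, h1, h2, h3⟩ := ih lo h
      exact ⟨i, h1, by rw [pow_succ]; omega, h3⟩
    · obtain ⟨i, h1, h2, h3⟩ := ih _ h
      exact ⟨i, by omega, by rw [pow_succ]; omega, h3⟩

/-- the word stored in a packed slot: 8 bits of length, then 3-bit letters (the last letter first) -/
def slotWord (e : ℕ) : List Gen :=
  Nat.rec (motive := fun _ => List Gen) []
    (fun k ih => genOf (Nat.land (Nat.shiftRight e (Nat.add 8 (Nat.mul 3 k))) 7) :: ih)
    (Nat.land e 255)

/-- the action of the reversed word -/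
def actR {α : Type} (t : α → ℕ → ℕ) (w : List α) (u : ℕ) : ℕ :=
  List.rec (motive := fun _ => ℕ → ℕ) (fun u => u) (fun x _ ih u => ih (t x u)) w u

theorem actR_nil {α : Type} (t : α → ℕ → ℕ) (u : ℕ) : actR t [] u = u := rfl

theorem actR_cons {α : Type} (t : α → ℕ → ℕ) (x : α) (w : List α) (u : ℕ) :
    actR t (x :: w) u = actR t w (t x u) := rfl

theorem actR_eq {α : Type} (t : α → ℕ → ℕ) (w : List α) : ∀ u, actR t w u = act t w.reverse u := by
  induction w with
  | nil => intro u; rfl
  | cons x w ih =>
    intro u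
    rw [actR_cons, ih, List.reverse_cons, act_append]
    rfl

/-- the conjugate of `d` by the word `w`, applied to a point -/
def cjAct (w : List Gen) (p : ℕ) : ℕ := act tf w (tf Gen.d (actR tf w p))

theorem cjAct_eq (w : List Gen) (p : ℕ) : cjAct w p = act tf (w ++ Gen.d :: w.reverse) p := by
  unfold cjAct
  rw [act_append, act_cons, actR_eq]

/-- the action of the transvection `1 + E_{ab}` on codes -/
def tropN (a b u : ℕ) : ℕ := Nat.xor u (Nat.shiftLeft (Nat.land (Nat.shiftRight u b) 1) a)

/-- entry `j` of a row of the relation table (17 bits: 12 for the point, 5 for the vector) -/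
def ttEnt (row j : ℕ) : ℕ := look row 17 131071 j

/-- does the row contain the entry `x' + 4096 v`, where `v ≠ 0`? -/
def rowMem (row x' v : ℕ) : Bool :=
  band (bnot (Nat.beq v 0))
    (anyRange (fun j => Nat.beq (ttEnt row j) (Nat.add x' (Nat.mul 4096 v))) 4 0)

theorem rowMem_spec (row x' v : ℕ) (h : rowMem row x' v = true) :
    v ≠ 0 ∧ ∃ j, j < 16 ∧ ttEnt row j = x' + 4096 * v := by
  unfold rowMem at h
  rw [band_eq_true, bnot_eq_true] at h
  refine ⟨?_, ?_⟩
  · intro hv
    rw [hv] at h
    exact absurd h.1 (by decide)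
  · obtain ⟨j, _, h2, h3⟩ := anyRange_spec _ 4 0 h.2
    exact ⟨j, by simpa using h2, nbeq_eq_true.1 h3⟩

/-- the check of one entry of the table against a generator pair (word `w`, transvection `(a, b)`) -/
def entChk (rowOf : ℕ → ℕ) (w : List Gen) (a b x e : ℕ) : Bool :=
  bor (Nat.beq e 0)
    (rowMem (rowOf (act tf w x)) (act tf w (Nat.land e 4095)) (tropN a b (Nat.shiftRight e 12)))

/-- the check of one row of the table against a generator pair -/
def relChk (rowOf : ℕ → ℕ) (w : List Gen) (a b x : ℕ) : Bool :=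
  allRange (fun j => entChk rowOf w a b x (ttEnt (rowOf x) j)) 4 0

theorem relChk_spec (rowOf : ℕ → ℕ) (w : List Gen) (a b x : ℕ) (h : relChk rowOf w a b x = true)
    (x' v : ℕ) (hx' : x' < 4096) (hm : rowMem (rowOf x) x' v = true) :
    rowMem (rowOf (act tf w x)) (act tf w x') (tropN a b v) = true := by
  obtain ⟨hv, j, hj, he⟩ := rowMem_spec _ _ _ hm
  have h1 := allRange_spec _ 4 0 h j (Nat.zero_le _) (by simpa using hj)
  unfold entChk at h1
  rw [bor_eq_true] at h1
  rcases h1 with h1 | h1
  · have : ttEnt (rowOf x) j = 0 := nbeq_eq_true.1 h1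
    rw [he] at this
    omega
  · rw [he] at h1
    have e1 : Nat.land (x' + 4096 * v) 4095 = x' := by
      show (x' + 4096 * v) &&& 4095 = x'
      have : (4095 : ℕ) = 2 ^ 12 - 1 := by norm_num
      rw [this, Nat.and_two_pow_sub_one_eq_mod]
      omega
    have e2 : Nat.shiftRight (x' + 4096 * v) 12 = v := by
      show (x' + 4096 * v) >>> 12 = v
      rw [Nat.shiftRight_eq_div_pow]
      omega
    rw [e1, e2] at h1
    exact h1

/-- the generator word commutes with `d` at the point `x` -/
def commChk (w : List Gen) (x : ℕ) : Bool :=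
  Nat.beq (act tf w (tf Gen.d x)) (tf Gen.d (act tf w x))

end

end Cfsg.Agent.Lib.Helper28.He2B
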