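import Cfsg.Agent.Lib.Helper28.He2B.RelData

set_option autoImplicit false
set_option linter.unusedVariables false
set_option Elab.async false

namespace Cfsg.Agent.Lib.Helper28.He2B

open Cfsg.Spor.He (Gen)
open Cfsg.Agent.Lib.Helper28.TC
open Cfsg.Agent.Lib.Helper28.He2058 (tf genOf nn)

noncomputable section

theorem relP4_blk0 : allRange (guard nn (relP 4)) 10 (0 * 2 ^ 10) = true := by decide +kernel
theorem relP4_blk1 : allRange (guard nn (relP 4)) 10 (1 * 2 ^ 10) = true := by decide +kernel
theorem relP4_blk2 : allRange (guard nn (relP 4)) 10 (2 * 2 ^ 10) = true := by decide +kernel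
theorem relP4_all : ∀ x, x < nn → relP 4 x = true := by
  refine all_of_blocks nn (relP 4) 10 3 (by decide) ?_
  intro k hk
  interval_cases k
  · exact relP4_blk0
  · exact relP4_blk1
  · exact relP4_blk2
theorem commP4_blk0 : allRange (guard nn (commP 4)) 10 (0 * 2 ^ 10) = true := by decide +kernel
theorem commP4_blk1 : allRange (guard nn (commP 4)) 10 (1 * 2 ^ 10) = true := by decide +kernel
theorem commP4_blk2 : allRange (guard nn (commP 4)) 10 (2 * 2 ^ 10) = true := by decide +kernel
theorem commP4_all : ∀ x, x < nn → commP 4 x = true := by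
  refine all_of_blocks nn (commP 4) 10 3 (by decide) ?_
  intro k hk
  interval_cases k
  · exact commP4_blk0
  · exact commP4_blk1
  · exact commP4_blk2

end

end Cfsg.Agent.Lib.Helper28.He2B
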