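import Cfsg.Agent.Lib.Helper28.He2B.RelChk0
import Cfsg.Agent.Lib.Helper28.He2B.RelChk1
import Cfsg.Agent.Lib.Helper28.He2B.RelChk2
import Cfsg.Agent.Lib.Helper28.He2B.RelChk3
import Cfsg.Agent.Lib.Helper28.He2B.RelChk4
import Cfsg.Agent.Lib.Helper28.He2B.RelChk5
import Cfsg.Agent.Lib.Helper28.He2B.RelChk6
import Cfsg.Agent.Lib.Helper28.He2B.RelChk7
import Cfsg.Agent.Lib.Helper28.He2B.RelChk8
import Cfsg.Agent.Lib.Helper28.He2B.RelChk9
import Cfsg.Agent.Lib.Helper28.He2B.RelChk10
import Cfsg.Agent.Lib.Helper28.He2B.RelChk11
import Cfsg.Agent.Lib.Helper28.He2B.RelChk12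

set_option autoImplicit false
set_option linter.unusedVariables false
set_option Elab.async false

namespace Cfsg.Agent.Lib.Helper28.He2B

open Cfsg.Spor.He (Gen)
open Cfsg.Agent.Lib.Helper28.TC
open Cfsg.Agent.Lib.Helper28.He2058 (tf genOf nn)

noncomputable section

theorem relP_all : ∀ i, i < 13 → ∀ x, x < nn → relP i x = true := by
  intro i hi
  interval_cases i
  · exact relP0_all
  · exact relP1_all
  · exact relP2_all
  · exact relP3_all
  · exact relP4_all
  · exact relP5_all
  · exact relP6_all
  · exact relP7_all
  · exact relP8_all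
  · exact relP9_all
  · exact relP10_all
  · exact relP11_all
  · exact relP12_all
theorem commP_all : ∀ i, i < 13 → ∀ x, x < nn → commP i x = true := by
  intro i hi
  interval_cases i
  · exact commP0_all
  · exact commP1_all
  · exact commP2_all
  · exact commP3_all
  · exact commP4_all
  · exact commP5_all
  · exact commP6_all
  · exact commP7_all
  · exact commP8_all
  · exact commP9_all
  · exact commP10_all
  · exact commP11_all
  · exact commP12_all
theorem wit_all : allList witChk witL = true := by decide +kernel

end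

end Cfsg.Agent.Lib.Helper28.He2B
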