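/-
The pairs (permutation of the 2058 points, element of `SL₅(2)`) compatible with the relation between
pairs of points and vectors. It contains the thirteen generator pairs, and a compatible pair whose
permutation is trivial is trivial.
-/
import Cfsg.Agent.Lib.Helper28.He2B.RelChk
import Cfsg.Agent.Lib.Helper28.He2B.VecAct
import Cfsg.Agent.Lib.Helper56.HePerm.Main

set_option autoImplicit false

namespace Cfsg.Agent.Lib.Helper28.He2B

open Matrix
open Cfsg.Spor.He (Gen)
open Cfsg.Agent.Lib.Helper28.TC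
open Cfsg.Agent.Lib.Helper28.He2058 (tf genOf nn rels T hrel hinv nn_pos)
open Cfsg.Agent.Lib.Helper56.HePerm (π π_injective π_wval π_of wp wp_apply)

/-- the relation between pairs of points and vectors -/
def TT (x x' : Fin nn) (v : V5) : Prop := rowMem (ttRow x.val) x'.val (enc v) = true

/-- compatibility of a permutation and a matrix -/
def RelOK (p : Equiv.Perm (Fin nn)) (m : SL5) : Prop :=
  ∀ x x' v, TT x x' v → TT (p x) (p x') ((m : M5) *ᵥ v)

theorem relOK_one : RelOK 1 1 := by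
  intro x x' v h
  rw [Matrix.SpecialLinearGroup.coe_one, one_mulVec]
  exact h

theorem relOK_mul {p p' : Equiv.Perm (Fin nn)} {m m' : SL5} (h : RelOK p m) (h' : RelOK p' m') :
    RelOK (p * p') (m * m') := by
  intro x x' v hx
  have h1 := h _ _ _ (h' _ _ _ hx)
  rw [mulVec_mulVec, ← Matrix.SpecialLinearGroup.coe_mul] at h1
  exact h1

theorem relOK_inv {p : Equiv.Perm (Fin nn)} {m : SL5} (h : RelOK p m) : RelOK p⁻¹ m⁻¹ := by
  intro y y' u hy
  let S := {t : Fin nn × Fin nn × V5 // TT t.1 t.2.1 t.2.2}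
  let f : S → S := fun t => ⟨(p t.1.1, p t.1.2.1, (m : M5) *ᵥ t.1.2.2), h _ _ _ t.2⟩
  have hinj : Function.Injective f := by
    intro t t' htt
    have h0 : (f t).1 = (f t').1 := congrArg Subtype.val htt
    have h1 : p t.1.1 = p t'.1.1 := congrArg Prod.fst h0
    have h2 : p t.1.2.1 = p t'.1.2.1 := congrArg (fun q => q.2.1) h0
    have h3 : alpha m t.1.2.2 = alpha m t'.1.2.2 := congrArg (fun q => q.2.2) h0
    exact Subtype.ext (Prod.ext (p.injective h1)
      (Prod.ext (p.injective h2) ((alpha m).injective h3)))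
  obtain ⟨⟨⟨x, x', v⟩, ht⟩, hft⟩ := Finite.surjective_of_injective hinj ⟨(y, y', u), hy⟩
  have h0 : (f ⟨(x, x', v), ht⟩).1 = (y, y', u) := congrArg Subtype.val hft
  have h1 : p x = y := congrArg Prod.fst h0
  have h2 : p x' = y' := congrArg (fun q => q.2.1) h0
  have h3 : (m : M5) *ᵥ v = u := congrArg (fun q => q.2.2) h0
  have e1 : p⁻¹ y = x := by rw [← h1]; exact p.symm_apply_apply x
  have e2 : p⁻¹ y' = x' := by rw [← h2]; exact p.symm_apply_apply x'
  have e3 : ((m⁻¹ : SL5) : M5) *ᵥ u = v := by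
    rw [← h3, mulVec_mulVec, coe_inv_mul, one_mulVec]
  show TT (p⁻¹ y) (p⁻¹ y') (((m⁻¹ : SL5) : M5) *ᵥ u)
  rw [e1, e2, e3]
  exact ht

/-- the subgroup of compatible pairs -/
def RR : Subgroup (Equiv.Perm (Fin nn) × SL5) where
  carrier := {r | RelOK r.1 r.2}
  mul_mem' := fun hr hr' => relOK_mul hr hr'
  one_mem' := relOK_one
  inv_mem' := fun hr => relOK_inv hr

theorem mem_RR (r : Equiv.Perm (Fin nn) × SL5) : r ∈ RR ↔ RelOK r.1 r.2 := Iff.rfl

/-! ### The generators -/

theorem pa_eq : ∀ i : Fin 13, nthD paL i.val 0 = (pa i).val := by decide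
theorem pb_eq : ∀ i : Fin 13, nthD pbL i.val 0 = (pb i).val := by decide

theorem enc_tv (i : Fin 13) (v : V5) :
    enc ((tvI i : M5) *ᵥ v) = tropN (pa i).val (pb i).val (enc v) := by
  have h := tv_dec i (enc v) (enc_lt v)
  rw [dec_enc] at h
  rw [tvI_coe, h, enc_dec _ (trop_lt i _ (enc_lt v))]
  rfl

theorem wp_val (w : List Gen) (x : Fin nn) : (wp w x).val = act tf w x.val := wp_apply w x

theorem relOK_gen (i : Fin 13) : RelOK (wp (cwN i.val)) (tvI i) := by
  intro x x' v h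
  show rowMem (ttRow (wp (cwN i.val) x).val) (wp (cwN i.val) x').val
    (enc ((tvI i : M5) *ᵥ v)) = true
  rw [wp_val, wp_val, enc_tv]
  have hc := relP_all i.val i.2 x.val x.2
  unfold relP at hc
  rw [pa_eq, pb_eq] at hc
  exact relChk_spec ttRow _ _ _ _ hc x'.val (enc v)
    (lt_trans x'.2 (by decide)) h

/-! ### Trivial first component -/

theorem witL_lt : ∀ t ∈ witL, t.1 < nn ∧ t.2.1 < nn ∧ t.2.2 < 32 := by decide

theorem fix_of_relOK_one {m : SL5} (h : RelOK 1 m) :
    ∀ t ∈ witL, (m : M5) *ᵥ dec t.2.2 = dec t.2.2 := by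
  intro t ht
  obtain ⟨h1, h2, h3⟩ := witL_lt t ht
  have hw := allList_spec _ _ wit_all t ht
  unfold witChk at hw
  rw [band_eq_true] at hw
  have hT : TT ⟨t.1, h1⟩ ⟨t.2.1, h2⟩ (dec t.2.2) := by
    show rowMem (ttRow t.1) t.2.1 (enc (dec t.2.2)) = true
    rw [enc_dec _ h3]
    exact hw.1
  have hT' := h _ _ _ hT
  have hT'' : rowMem (ttRow t.1) t.2.1 (enc ((m : M5) *ᵥ dec t.2.2)) = true := hT'
  have hc := allRange_spec _ 5 0 hw.2 (enc ((m : M5) *ᵥ dec t.2.2)) (Nat.zero_le _)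
    (by simpa using enc_lt _)
  rw [bor_eq_true, bnot_eq_true, hT''] at hc
  rcases hc with hc | hc
  · cases hc
  · have he : enc ((m : M5) *ᵥ dec t.2.2) = t.2.2 := nbeq_eq_true.1 hc
    have := congrArg dec he
    rwa [dec_enc] at this

theorem single_eqs : (Pi.single 0 1 : V5) = dec 3 + dec 2 ∧ (Pi.single 1 1 : V5) = dec 2 ∧
    (Pi.single 2 1 : V5) = dec 6 + dec 2 ∧ (Pi.single 3 1 : V5) = dec 10 + dec 2 ∧
    (Pi.single 4 1 : V5) = dec 18 + dec 2 := by decide

theorem witL_eq : witL.map (fun t => t.2.2) = [2, 3, 6, 10, 18] := by decide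

theorem eq_one_of_relOK_one {m : SL5} (h : RelOK 1 m) : m = 1 := by
  have hf := fix_of_relOK_one h
  have hcode : ∀ c ∈ [2, 3, 6, 10, 18], (m : M5) *ᵥ dec c = dec c := by
    intro c hc
    rw [← witL_eq, List.mem_map] at hc
    obtain ⟨t, ht, rfl⟩ := hc
    exact hf t ht
  have h2 := hcode 2 (by decide)
  have h3 := hcode 3 (by decide)
  have h6 := hcode 6 (by decide)
  have h10 := hcode 10 (by decide)
  have h18 := hcode 18 (by decide)
  obtain ⟨s0, s1, s2, s3, s4⟩ := single_eqs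
  have hcol : ∀ j : Fin 5, (m : M5) *ᵥ Pi.single j 1 = Pi.single j 1 := by
    intro j
    fin_cases j
    · show (m : M5) *ᵥ Pi.single 0 1 = Pi.single 0 1
      rw [s0, mulVec_add, h3, h2]
    · show (m : M5) *ᵥ Pi.single 1 1 = Pi.single 1 1
      rw [s1, h2]
    · show (m : M5) *ᵥ Pi.single 2 1 = Pi.single 2 1
      rw [s2, mulVec_add, h6, h2]
    · show (m : M5) *ᵥ Pi.single 3 1 = Pi.single 3 1
      rw [s3, mulVec_add, h10, h2]
    · show (m : M5) *ᵥ Pi.single 4 1 = Pi.single 4 1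
      rw [s4, mulVec_add, h18, h2]
  apply Subtype.ext
  rw [Matrix.SpecialLinearGroup.coe_one]
  ext i j
  have := congrFun (hcol j) i
  rw [mulVec_single_one] at this
  rw [Matrix.one_apply, ← Pi.single_apply]
  exact this

end Cfsg.Agent.Lib.Helper28.He2B
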