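/-
The centralizer of the involution `d` of the presented Held group is isomorphic to the centralizer of
the transvection `1 + E₀₁` in `SL₅(2)`.
-/
import Cfsg.Agent.Lib.Helper28.He2B.Conj
import Cfsg.Agent.Lib.Helper28.He2B.Rel
import Cfsg.Agent.Lib.Helper28.He2B.DChain

set_option autoImplicit false

namespace Cfsg.Agent.Lib.Helper28.He2B

open Matrix
open Cfsg.Spor.He (Gen)
open Cfsg.Agent.Lib.Helper28.TC
open Cfsg.Agent.Lib.Helper28.He2058 (tf genOf nn rels T hrel hinv nn_pos)
open Cfsg.Agent.Lib.Helper56.HePerm (π π_injective π_wval π_of wp wp_apply)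

/-- the centralizer of `d` -/
abbrev CC : Subgroup GH := Subgroup.centralizer ({zd} : Set GH)

/-- the thirteen generators of the centralizer -/
noncomputable def cEl (i : Fin 13) : GH := wval (pval rels) (cwN i.val)

theorem π_cEl (i : Fin 13) : π (cEl i) = wp (cwN i.val) := π_wval _

theorem cEl_mem (i : Fin 13) : cEl i ∈ CC := by
  rw [Subgroup.mem_centralizer_iff]
  intro h hh
  rw [Set.mem_singleton_iff] at hh
  subst hh
  apply π_injective
  rw [map_mul, map_mul, π_cEl]
  ext p
  rw [Equiv.Perm.mul_apply, Equiv.Perm.mul_apply, π_zd_val, wp_val, wp_val, π_zd_val]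
  have hc := commP_all i.val i.2 p.val p.2
  exact (nbeq_eq_true.1 hc).symm

theorem tvI_mem_DD : ∀ i : Fin 13, tvI i ∈ DD := by
  intro i
  rw [Subgroup.mem_centralizer_iff]
  intro h hh
  rw [Set.mem_singleton_iff] at hh
  subst hh
  apply Subtype.ext
  rw [Matrix.SpecialLinearGroup.coe_mul, Matrix.SpecialLinearGroup.coe_mul, tvI_coe, tS_coe]
  revert i
  decide

theorem DG_le_DD : DG ≤ DD := by
  unfold DG
  rw [Subgroup.closure_le]
  rintro _ ⟨i, rfl⟩
  exact tvI_mem_DD i

theorem DG_eq_DD : DG = DD := by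
  have : Finite DD := inferInstance
  exact Subgroup.eq_of_le_of_card_ge DG_le_DD (le_trans card_DD_le card_DG_ge)

/-- the generator pairs -/
noncomputable def gpair (i : Fin 13) : Equiv.Perm (Fin nn) × SL5 := (wp (cwN i.val), tvI i)

/-- the graph of the isomorphism -/
noncomputable def RG : Subgroup (Equiv.Perm (Fin nn) × SL5) := Subgroup.closure (Set.range gpair)

theorem RG_le_RR : RG ≤ RR := by
  unfold RG
  rw [Subgroup.closure_le]
  rintro _ ⟨i, rfl⟩
  exact relOK_gen i

theorem RG_fst_mem : ∀ r ∈ RG, r.1 ∈ CC.map π := by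
  intro r hr
  have : RG ≤ (CC.map π).prod ⊤ := by
    unfold RG
    rw [Subgroup.closure_le]
    rintro _ ⟨i, rfl⟩
    refine Subgroup.mem_prod.2 ⟨?_, Subgroup.mem_top _⟩
    exact ⟨cEl i, cEl_mem i, π_cEl i⟩
  exact (Subgroup.mem_prod.1 (this hr)).1

theorem eq_one_of_fst_eq_one : ∀ r ∈ RG, r.1 = 1 → r = 1 := by
  intro r hr h1
  have h := RG_le_RR hr
  rw [mem_RR, h1] at h
  exact Prod.ext h1 (eq_one_of_relOK_one h)

theorem RG_map_snd : RG.map (MonoidHom.snd _ _) = DG := by
  unfold RG DG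
  rw [MonoidHom.map_closure]
  congr 1
  ext m
  constructor
  · rintro ⟨_, ⟨i, rfl⟩, rfl⟩
    exact ⟨i, rfl⟩
  · rintro ⟨i, rfl⟩
    exact ⟨gpair i, ⟨i, rfl⟩, rfl⟩

/-- the first projection on the graph -/
noncomputable def pr1 : RG →* RG.map (MonoidHom.fst (Equiv.Perm (Fin nn)) SL5) :=
  (MonoidHom.fst _ _).subgroupMap RG

/-- the second projection on the graph -/
noncomputable def pr2 : RG →* RG.map (MonoidHom.snd (Equiv.Perm (Fin nn)) SL5) :=
  (MonoidHom.snd _ _).subgroupMap RG

theorem pr1_surjective : Function.Surjective pr1 := by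
  unfold pr1
  exact MonoidHom.subgroupMap_surjective _ _

theorem pr2_surjective : Function.Surjective pr2 := by
  unfold pr2
  exact MonoidHom.subgroupMap_surjective _ _

theorem pr1_bijective : Function.Bijective pr1 := by
  refine ⟨?_, pr1_surjective⟩
  rw [injective_iff_map_eq_one]
  intro r h
  have h1 : (r : Equiv.Perm (Fin nn) × SL5).1 = 1 := congrArg Subtype.val h
  exact Subtype.ext (eq_one_of_fst_eq_one r.1 r.2 h1)

theorem map_fst_le : RG.map (MonoidHom.fst _ _) ≤ CC.map π := by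
  rintro _ ⟨r, hr, rfl⟩
  exact RG_fst_mem r hr

theorem card_CC_map : Nat.card (CC.map π) = Nat.card CC :=
  (Nat.card_congr (CC.equivMapOfInjective π π_injective).toEquiv).symm

theorem card_RG_le : Nat.card RG ≤ 21504 := by
  have h1 : Nat.card RG = Nat.card (RG.map (MonoidHom.fst (Equiv.Perm (Fin nn)) SL5)) :=
    Nat.card_congr (Equiv.ofBijective _ pr1_bijective)
  have h2 := Subgroup.card_le_of_le map_fst_le
  rw [card_CC_map] at h2
  rw [h1]
  exact le_trans h2 card_centralizer_le

theorem card_RG_ge : 21504 ≤ Nat.card RG := by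
  have h1 : Nat.card (RG.map (MonoidHom.snd (Equiv.Perm (Fin nn)) SL5)) ≤ Nat.card RG :=
    Nat.card_le_card_of_surjective pr2 pr2_surjective
  rw [RG_map_snd] at h1
  exact le_trans card_DG_ge h1

theorem card_RG : Nat.card RG = 21504 := le_antisymm card_RG_le card_RG_ge

theorem pr2_bijective : Function.Bijective pr2 := by
  apply pr2_surjective.bijective_of_nat_card_le
  rw [card_RG, RG_map_snd]
  exact card_DG_ge

theorem map_fst_eq : RG.map (MonoidHom.fst _ _) = CC.map π := by
  apply Subgroup.eq_of_le_of_card_ge map_fst_le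
  rw [card_CC_map, ← Nat.card_congr (Equiv.ofBijective _ pr1_bijective), card_RG]
  exact card_centralizer_le

/-- the isomorphism -/
theorem centralizer_equiv : Nonempty (CC ≃* DD) := by
  have e0 : CC ≃* CC.map π := CC.equivMapOfInjective π π_injective
  have e1 : RG ≃* RG.map (MonoidHom.fst (Equiv.Perm (Fin nn)) SL5) :=
    MulEquiv.ofBijective pr1 pr1_bijective
  have e2 : RG ≃* RG.map (MonoidHom.snd (Equiv.Perm (Fin nn)) SL5) :=
    MulEquiv.ofBijective pr2 pr2_bijective
  have e3 : RG.map (MonoidHom.fst (Equiv.Perm (Fin nn)) SL5) ≃* CC.map π :=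
    MulEquiv.subgroupCongr map_fst_eq
  have e4 : RG.map (MonoidHom.snd (Equiv.Perm (Fin nn)) SL5) ≃* DD :=
    MulEquiv.subgroupCongr (RG_map_snd.trans DG_eq_DD)
  exact ⟨e0.trans (e3.symm.trans (e1.symm.trans (e2.trans e4)))⟩

theorem zd_ne_one : zd ≠ 1 := by
  intro h
  have h1 : (π zd ⟨2, by decide⟩).val = 2 := by rw [h, map_one]; rfl
  rw [π_zd_val] at h1
  revert h1
  decide +kernel

theorem orderOf_zd : orderOf zd = 2 := by
  have : Fact (Nat.Prime 2) := ⟨Nat.prime_two⟩
  apply orderOf_eq_prime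
  · rw [pow_two]; exact hinv Gen.d
  · exact zd_ne_one

end Cfsg.Agent.Lib.Helper28.He2B
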